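import Cfsg.Agent.Lib.Walter.Assemble
import Cfsg.Agent.Lib.Walter.Main
import Cfsg.Agent.Lib.BenderOne.Final
import Cfsg.Agent.Lib.GorensteinWalter.Main
import Cfsg.Agent.Lib.AllAbelian80.HypOfCtx
import Mathlib.LinearAlgebra.Projectivization.Action

/-!
# Simple groups with abelian Sylow 2-subgroups and no 2-transitive representation

`PSL(2,q)` acts doubly transitively on the projective line and a group of Ree type on the cosets of a
Sylow 3-normaliser (`Ree.Hyp.exists_BN`, helper80); so only the order of `J₁` is left (S4272).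

Owner: helper68.
-/

set_option autoImplicit false
set_option linter.style.haveILetI false
set_option linter.unusedSectionVars false

universe u v

namespace Cfsg.Agent.Lib.ReeTwoTrans68

open Subgroup Cfsg.Agent.Lib.Walter MulAction
open scoped LinearAlgebra.Projectivization

variable {G : Type u} [Group G]

/-- No faithful doubly transitive action. -/
def NoTwo (G : Type u) [Group G] : Prop :=
  ∀ (Ω : Type) [Fintype Ω] [MulAction G Ω] [FaithfulSMul G Ω],
    ¬ MulAction.IsMultiplyPretransitive G Ω 2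

/-- A doubly transitive action of a simple group contradicts `NoTwo`. -/
theorem false_of_two [IsSimpleGroup G] (hno : NoTwo G) (X : Type v) [MulAction G X] [Finite X]
    [Nontrivial X] [IsMultiplyPretransitive G X 2] : False := by
  obtain ⟨n, ⟨e⟩⟩ := Finite.exists_equiv_fin X
  letI : MulAction G (Fin n) :=
    MulAction.compHom _ (e.permCongrHom.toMonoidHom.comp (MulAction.toPermHom G X))
  have hsm : ∀ (g : G) (i : Fin n), g • i = e (g • e.symm i) := fun g i => rfl
  haveI : FaithfulSMul G (Fin n) := by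
    rcases Subgroup.Normal.eq_bot_or_eq_top
        (inferInstance : (MulAction.toPermHom G X).ker.Normal) with hk | hk
    · refine ⟨fun {g g'} hg => (MonoidHom.ker_eq_bot_iff _).1 hk (Equiv.ext fun x => ?_)⟩
      have := hg (e x)
      rw [hsm, hsm, e.symm_apply_apply, e.injective.eq_iff] at this
      exact this
    · exfalso
      obtain ⟨a, b, hab⟩ := exists_pair_ne X
      obtain ⟨g, hga, -⟩ := is_two_pretransitive_iff.1
        (inferInstance : IsMultiplyPretransitive G X 2) hab hab.symm
      have : (MulAction.toPermHom G X) g = 1 := MonoidHom.mem_ker.1 (hk ▸ mem_top g)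
      exact hab ((congrArg (fun p : Equiv.Perm X => p a) this).symm.trans hga)
  refine hno (Fin n) (is_two_pretransitive_iff.2 fun {a b c d} hab hcd => ?_)
  obtain ⟨g, h1, h2⟩ := is_two_pretransitive_iff.1 (inferInstance : IsMultiplyPretransitive G X 2)
    (e.symm.injective.ne hab) (e.symm.injective.ne hcd)
  exact ⟨g, by rw [hsm, h1, e.apply_symm_apply], by rw [hsm, h2, e.apply_symm_apply]⟩

/-- `PSL(2,q)` has a doubly transitive action. -/
theorem false_of_psl [IsSimpleGroup G] (hno : NoTwo G) {F : Type} [Field F] [Fintype F]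
    (e : G ≃* Matrix.ProjectiveSpecialLinearGroup (Fin 2) F) : False := by
  letI : MulAction G (ℙ F (Fin 2 → F)) := MulAction.compHom _ e.toMonoidHom
  haveI : IsMultiplyPretransitive G (ℙ F (Fin 2 → F)) 2 := by
    rw [is_two_pretransitive_iff]
    intro a b c d hab hcd
    obtain ⟨g, h1, h2⟩ := (is_two_pretransitive_iff.1 (inferInstance :
      IsMultiplyPretransitive (Matrix.SpecialLinearGroup (Fin 2) F) (ℙ F (Fin 2 → F)) 2)) hab hcd
    refine ⟨e.symm g, ?_, ?_⟩
    · show e (e.symm g) • a = c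
      rwa [MulEquiv.apply_symm_apply, Matrix.ProjectiveSpecialLinearGroup.smul_proj_mk]
    · show e (e.symm g) • b = d
      rwa [MulEquiv.apply_symm_apply, Matrix.ProjectiveSpecialLinearGroup.smul_proj_mk]
  haveI : Finite (ℙ F (Fin 2 → F)) := Quotient.finite _
  haveI : Nontrivial (ℙ F (Fin 2 → F)) := by
    rw [← Finite.one_lt_card_iff_nontrivial,
      Projectivization.card_of_finrank_two F _ (Module.finrank_fin_fun F)]
    have := Nat.card_pos (α := F)
    omega
  exact false_of_two hno (ℙ F (Fin 2 → F))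

/-- A group in the setting `Ree.Hyp` acts doubly transitively on the cosets of `N(P)`. -/
theorem false_of_hyp [Finite G] [IsSimpleGroup G] (hno : NoTwo G) {q d : ℕ} {t s : G}
    {E U T : Subgroup G} (h : AllAbelian80.Ree.Hyp G q d t s E U T) : False := by
  obtain ⟨P, N, M, b, -, -⟩ := h.exists_BN
  haveI : Nontrivial (G ⧸ N) := ⟨⟨((1 : G) : G ⧸ N), (s : G ⧸ N), fun e => b.sN (by
    rw [QuotientGroup.eq, inv_one, one_mul] at e; exact e)⟩⟩
  haveI : IsMultiplyPretransitive G (G ⧸ N) 2 := by
    have key : ∀ x y : G ⧸ N, x ≠ y →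
        ∃ g : G, g • ((1 : G) : G ⧸ N) = x ∧ g • (s : G ⧸ N) = y := by
      intro x y hxy
      obtain ⟨a, rfl⟩ := QuotientGroup.mk_surjective x
      obtain ⟨c, rfl⟩ := QuotientGroup.mk_surjective y
      obtain ⟨p, hp, n, hn, e⟩ := b.cover (a⁻¹ * c) fun hm => hxy (QuotientGroup.eq.2 hm)
      refine ⟨a * p, ?_, ?_⟩
      · rw [MulAction.Quotient.smul_coe, smul_eq_mul, mul_one, QuotientGroup.eq]
        have : (a * p)⁻¹ * a = p⁻¹ := by group
        rw [this]
        exact inv_mem (b.MN (b.PM hp))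
      · rw [MulAction.Quotient.smul_coe, smul_eq_mul, QuotientGroup.eq]
        have : (a * p * s)⁻¹ * c = n := by
          calc (a * p * s)⁻¹ * c = (p * s)⁻¹ * (a⁻¹ * c) := by group
            _ = n := by rw [e]; group
        rwa [this]
    rw [is_two_pretransitive_iff]
    intro x y z w hxy hzw
    obtain ⟨g, rfl, rfl⟩ := key x y hxy
    obtain ⟨g', rfl, rfl⟩ := key z w hzw
    exact ⟨g' * g⁻¹, by simp [mul_smul], by simp [mul_smul]⟩
  exact false_of_two hno (G ⧸ N)

/-- The statement of S4272 from Walter's two theorems on groups of Janko–Ree type. -/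
theorem row4272 (hZ : PropNoField.{u}) (hO : PropOrder.{u}) [Finite G] [IsSimpleGroup G]
    (hG : ¬ IsMulCommutative G) (P : Sylow 2 G) (hP : IsMulCommutative (P : Subgroup G))
    (hno : NoTwo G) : Nat.card G = 175560 := by
  haveI : Fact (Nat.Prime 2) := ⟨Nat.prime_two⟩
  have hab : AbelianSylow G := fun T => by
    haveI := hP
    refine ⟨⟨fun x y => (Sylow.equiv T P).injective ?_⟩⟩
    rw [map_mul, map_mul]
    exact mul_comm' _ _
  have hK : PropKnown.{u} :=
    Walter.propKnown BenderOne.propSplitFinal GorensteinWalter.propMainFinal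
  rcases hK G inferInstance hG hab with ⟨n, F, hF, hF', hn, hc, ⟨e⟩⟩ | ⟨F, hF, hF', hq, -, ⟨e⟩⟩ | hJ
  · exact (false_of_psl hno e).elim
  · exact (false_of_psl hno e).elim
  obtain ⟨⟨t, htP⟩, ht'⟩ := exists_prime_orderOf_dvd_card' (G := (P : Subgroup G)) 2 (by
    rw [hJ.card_sylow P]; norm_num)
  have ht : orderOf t = 2 := by rwa [← Subgroup.orderOf_mk t htP]
  obtain ⟨E, E₀, hE⟩ := hJ.centralizer t ht
  have hEE := hZ G hJ t ht E E₀ hE
  obtain ⟨F, hF, hF', -, h5, ⟨φ⟩⟩ := hE.2.2.2.2.1
  subst hEE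
  obtain ⟨d⟩ := prod_equiv ht hE.1
  rcases hO G (fun P a b => by haveI := hab P; exact mul_comm' a b) F (by omega) t ht
      ⟨d.trans ((MulEquiv.refl _).prodCongr φ)⟩ with ⟨m, hm, hFm, hc⟩ | ⟨-, -, hJ1⟩
  · obtain ⟨d', s, U, T, h⟩ := AllAbelian80.exists_hyp hJ ⟨hJ, ht, htP, hE⟩ hm hFm φ hc
    exact (false_of_hyp hno h).elim
  · exact hJ1

end Cfsg.Agent.Lib.ReeTwoTrans68
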